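import Mathlib
import Cfsg.Prelude.Def_RootSubgroups
import Cfsg.Agent.H26.RootInv2
import Cfsg.Agent.Lib.Helper2.RedPART
import Cfsg.Agent.Lib.Helper2.RedLADIR1
import Cfsg.Agent.Lib.Helper2.RedLE
import Cfsg.Agent.Lib.Helper2.RedTC3
import Cfsg.Agent.Lib.Helper4.RedCONJ
import Cfsg.Agent.Lib.Helper4.RedTC1
import Cfsg.Agent.Lib.Helper12.Diamond.Main

/-!
# S5046: reduction to the diamond lemma (assembly, helper3)

`comm_of_odd_eq` : two members with the same odd partners commute (`T` is commutative).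
`comm_subset_of_odd_eq` : `A_d = A_e ⇒ C_D(d) ⊆ C_D(e)` (via helper12's `diamond_false`).
-/

set_option autoImplicit false

namespace Cfsg.Agent.Lib.Helper3.Red
open Cfsg Cfsg.Agent.H26
open scoped commutatorElement

variable {G : Type*} [Group G] {D : Set G}

namespace Asm

/-- `a (a b)² = b a b` for an involution `a`. -/
theorem mul_sq_eq {a b : G} (ha : a * a = 1) : a * (a * b) ^ 2 = b * a * b := by
  rw [sq]
  calc a * (a * b * (a * b)) = (a * a) * b * a * b := by group
    _ = b * a * b := by rw [ha, one_mul]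

/-- `(a b)² a = b a b` when `(a b)⁴ = 1` and `a, b` are involutions. -/
theorem sq_mul_eq {a b : G} (ha : a * a = 1) (hb : b * b = 1) (h4 : (a * b) ^ 4 = 1) :
    (a * b) ^ 2 * a = b * a * b := by
  have h2 : (a * b) ^ 2 = ((a * b) ^ 2)⁻¹ := by
    rw [eq_inv_iff_mul_eq_one, ← pow_add]
    exact h4
  have hainv : a⁻¹ = a := inv_eq_of_mul_eq_one_left ha
  have hbinv : b⁻¹ = b := inv_eq_of_mul_eq_one_left hb
  rw [h2, sq, mul_inv_rev, mul_inv_rev, hainv, hbinv]
  calc b * a * (b * a) * a = b * a * b * (a * a) := by group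
    _ = b * a * b := by rw [ha, mul_one]

/-- `(a b)² = ⁅a, b⁆` for involutions. -/
theorem sq_eq_commutator {a b : G} (ha : a * a = 1) (hb : b * b = 1) :
    (a * b) ^ 2 = ⁅a, b⁆ := by
  have hainv : a⁻¹ = a := inv_eq_of_mul_eq_one_left ha
  have hbinv : b⁻¹ = b := inv_eq_of_mul_eq_one_left hb
  rw [commutatorElement_def, hainv, hbinv, sq]
  group

end Asm

/-- [TC] members of `D` with the same odd partners commute. -/
theorem comm_of_odd_eq [Finite G] (hD : IsRootInvolutionSet D)
    (hc : IsConnectedSet (OddAdj D) D) {t t' : G} (ht : t ∈ D) (ht' : t' ∈ D)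
    (hA : oddPartners D t = oddPartners D t') : t * t' = t' * t := by
  by_contra hnc
  have hcard : ∀ a ∈ D, ∀ b ∈ D, (oddPartners D a).ncard = (oddPartners D b).ncard :=
    fun a ha b hb => ncard_oddPartners_eq hD hc ha hb
  set T : Set G := {s | s ∈ D ∧ oddPartners D s = oddPartners D t} with hT
  have htT : t ∈ T := ⟨ht, rfl⟩
  have ht'T : t' ∈ T := ⟨ht', hA.symm⟩
  -- (F1)
  have hF1 : ∀ s ∈ T, ∀ s' ∈ T, s' ∉ oddPartners D s := by
    intro s hs s' hs' hmem
    rw [hs.2, ← hs'.2] at hmem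
    exact hmem.2.1 rfl
  -- (F2)
  have hF2 : ∀ s ∈ T, ∀ s' ∈ T, (s * s') ^ 4 = 1 := by
    intro s hs s' hs'
    rcases mem_cases hD hs.1 hs'.1 with h | h | h
    · have := ri_sq_of_comm hD hs.1 hs'.1 h.2.symm
      rw [show 4 = 2 * 2 from rfl, pow_mul, this, one_pow]
    · exact absurd h (hF1 s hs s' hs')
    · rw [← h.2]; exact pow_orderOf_eq_one _
  -- (F3)
  have hF3 : ∀ s ∈ T, ∀ u ∈ T, s * u * s⁻¹ ∈ T := by
    intro s hs u hu
    refine ⟨hD.conj_mem u hu.1 s, ?_⟩
    rw [oddPartners_conj hD s u, hu.2, ← hs.2, ← oddPartners_conj hD s s]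
    congr 1
    group
  -- (F4)
  have hQ : IsPGroup 2 (Subgroup.closure T) :=
    isPGroup_closure_of_pairwise T (fun s hs => ri_mul_self hD hs.1) hF3 hF2
  -- (F5)
  have ht2 := ri_mul_self hD ht
  have ht'2 := ri_mul_self hD ht'
  have h4 : orderOf (t * t') = 4 := by
    rcases ri_odd_or_four hD ht ht' hnc with h | h
    · exfalso
      refine hF1 t htT t' ht'T ⟨ht', ?_, h⟩
      rintro rfl
      exact hnc rfl
    · exact h
  have hzD : (t * t') ^ 2 ∈ D := ri_four hD ht ht' h4
  have h44 : (t * t') ^ 4 = 1 := by rw [← h4]; exact pow_orderOf_eq_one _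
  have hconj : t * (t * t') ^ 2 = t' * t * t'⁻¹ := by
    rw [Asm.mul_sq_eq ht2, ri_inv hD ht']
  have hzT : (t * t') ^ 2 ∈ T := by
    refine ⟨hzD, ?_⟩
    have h1 : t * (t * t') ^ 2 ∈ T := by rw [hconj]; exact hF3 t' ht'T t htT
    exact odd_eq_of_line hD hcard ht hzD h1.1
      (by rw [Asm.mul_sq_eq ht2, Asm.sq_mul_eq ht2 ht'2 h44]) h1.2
  -- (F6)
  have hzc : (t * t') ^ 2 ∈ ⁅Subgroup.closure T, Subgroup.closure T⁆ := by
    rw [Asm.sq_eq_commutator ht2 ht'2]
    exact Subgroup.commutator_mem_commutator (Subgroup.subset_closure htT)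
      (Subgroup.subset_closure ht'T)
  -- (F7)
  have hF7 : T ⊆ (⁅Subgroup.closure T, Subgroup.closure T⁆ : Subgroup G) := by
    intro s hs
    obtain ⟨w, hw⟩ := conj_of_conn hD hc hzD hs.1
    have hwT : ∀ u ∈ T, w * u * w⁻¹ ∈ T := by
      intro u hu
      refine ⟨hD.conj_mem u hu.1 w, ?_⟩
      have h0 : oddPartners D (w * u * w⁻¹) = oddPartners D s := by
        rw [oddPartners_conj hD w u, hu.2, ← hzT.2, ← oddPartners_conj hD w, ← hw]
      exact h0.trans hs.2
    have hmap : (Subgroup.closure T).map (MulAut.conj w).toMonoidHom ≤ Subgroup.closure T := by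
      rw [Subgroup.map_le_iff_le_comap, Subgroup.closure_le]
      intro u hu
      show (MulAut.conj w).toMonoidHom u ∈ Subgroup.closure T
      exact Subgroup.subset_closure (hwT u hu)
    have h1 : (MulAut.conj w).toMonoidHom ((t * t') ^ 2) ∈
        (⁅Subgroup.closure T, Subgroup.closure T⁆ : Subgroup G).map (MulAut.conj w).toMonoidHom :=
      Subgroup.mem_map_of_mem _ hzc
    rw [Subgroup.map_commutator] at h1
    have h2 := Subgroup.commutator_mono hmap hmap h1
    have h3 : (MulAut.conj w).toMonoidHom ((t * t') ^ 2) = s := by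
      rw [hw]; rfl
    rw [h3] at h2
    exact h2
  -- (F8)
  have hle : Subgroup.closure T ≤ ⁅Subgroup.closure T, Subgroup.closure T⁆ :=
    (Subgroup.closure_le _).2 hF7
  have hbot := eq_bot_of_le_commutator (Subgroup.closure T) hQ hle
  have : t ∈ (⊥ : Subgroup G) := hbot ▸ Subgroup.subset_closure htT
  exact ri_ne_one hD ht (Subgroup.mem_bot.1 this)

/-- [DIR2] `A_d = A_e ⇒ C_D(d) ⊆ C_D(e)`. -/
theorem comm_subset_of_odd_eq [Finite G] (hD : IsRootInvolutionSet D)
    (hc : IsConnectedSet (OddAdj D) D) {d e : G} (hd : d ∈ D) (he : e ∈ D)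
    (hA : oddPartners D d = oddPartners D e) :
    commutingMembers D d ⊆ commutingMembers D e := by
  intro x hx
  by_contra hxe
  have hxD : x ∈ D := hx.1
  have hcard : ∀ a ∈ D, ∀ b ∈ D, (oddPartners D a).ncard = (oddPartners D b).ncard :=
    fun a ha b hb => ncard_oddPartners_eq hD hc ha hb
  have hxodd : x ∉ oddPartners D e := by
    rw [← hA]; exact not_mem_odd_of_comm hD hd hx
  have h4 : orderOf (e * x) = 4 := by
    rcases mem_cases hD he hxD with h | h | h
    · exact absurd h hxe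
    · exact absurd h hxodd
    · exact h.2
  have he2 := ri_mul_self hD he
  have hx2 := ri_mul_self hD hxD
  have hzD : (e * x) ^ 2 ∈ D := ri_four hD he hxD h4
  have h44 : (e * x) ^ 4 = 1 := by rw [← h4]; exact pow_orderOf_eq_one _
  have hconj : e * (e * x) ^ 2 = x * e * x⁻¹ := by
    rw [Asm.mul_sq_eq he2, ri_inv hD hxD]
  have hxdx : x * d * x⁻¹ = d := by rw [hx.2, mul_inv_cancel_right]
  have hAconj : oddPartners D (e * (e * x) ^ 2) = oddPartners D e := by
    rw [hconj, oddPartners_conj hD x e, ← hA, ← oddPartners_conj hD x d, hxdx]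
  have hAz : oddPartners D ((e * x) ^ 2) = oddPartners D e :=
    odd_eq_of_line hD hcard he hzD (by rw [hconj]; exact hD.conj_mem e he x)
      (by rw [Asm.mul_sq_eq he2, Asm.sq_mul_eq he2 hx2 h44]) hAconj
  have hne : oddPartners D x ≠ oddPartners D ((e * x) ^ 2) := by
    intro h
    apply hxe
    refine ⟨hxD, ?_⟩
    exact comm_of_odd_eq hD hc hxD he (h.trans hAz)
  have hnsub : ¬ (oddPartners D ((e * x) ^ 2) ⊆ oddPartners D x) := by
    intro hsub
    exact hne (Set.eq_of_subset_of_ncard_le hsub (hcard x hxD _ hzD).le (Set.toFinite _)).symm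
  obtain ⟨p, hpz, hpx⟩ := Set.not_subset.1 hnsub
  exact Cfsg.Agent.Lib.Helper12.Diamond.diamond_false hD he hxD hpz.1 hzD hAz.symm hpz hpx

end Cfsg.Agent.Lib.Helper3.Red
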